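import Groth.Agent.S9515
import Groth.Agent.TFNodalLib.Stalk
import Groth.Agent.KoszShLib.Twist
import Groth.Agent.IntMultLib.Cartier
import Groth.Agent.NoethApproxLib.Main
import Groth.Agent.CurveSDLib.Main
import Groth.Agent.CohAmpLib.Tools
import Groth.Agent.QCohLib.AffineFinite
import Groth.Agent.QCohLib.Push
import Groth.Agent.RichLib.ModFlatGlobal
import Groth.Agent.DefClassLib.Basic
import Groth.Agent.SurfExtLib.CBGeom
import Groth.Agent.CurveDualLib.Family
import Groth.Agent.FlatFunLimLib.Main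

/-!
# A finitely presented module whose tensor powers generate
-/

set_option autoImplicit false
set_option linter.style.haveILetI false
set_option linter.unusedSectionVars false
set_option backward.isDefEq.respectTransparency false
set_option backward.isDefEq.respectTransparency.types false
set_option maxHeartbeats 1000000
set_option synthInstance.maxHeartbeats 400000

universe u

open CategoryTheory CategoryTheory.Limits AlgebraicGeometry TopologicalSpace Opposite
open AmpleLib (shT)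
open scoped TensorProduct

noncomputable section

namespace FPGenLib

variable {X : Scheme.{u}} {F : X.Modules} (a : F ⟶ Coh.structureModule X)

/-- The product of `n` copies of a form. -/
def muPow : ∀ n : ℕ, CohB1.tensorPow F n ⟶ Coh.structureModule X
  | 0 => 𝟙 _
  | n + 1 => KoszTw.tensorMap (muPow n) a ≫ (KFlatLib.tensUnitIso (Coh.structureModule X)).hom

/-- The value of a hom into the structure module. -/
abbrev val {P : X.Modules} (b : P ⟶ Coh.structureModule X) {W : X.Opens} (s : Γ(P, W)) : Γ(X, W) := b.app W s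

theorem muPow_shT (n : ℕ) {W : X.Opens} (m : Γ(CohB1.tensorPow F n, W)) (e : Γ(F, W)) :
    val (muPow a (n + 1)) (shT m e) = val (muPow a n) m * val a e :=
  (congrArg (fun y => (KFlatLib.tensUnitIso (Coh.structureModule X)).hom.app W y)
    (KoszShLib.tensorMap_shT (muPow a n) a W m e)).trans
    (TFNodalLib.tensUnitIso_shTm (Coh.structureModule X) (val (muPow a n) m) (a.app W e))

theorem val_res {P : X.Modules} (b : P ⟶ Coh.structureModule X) {W W' : X.Opens} (h : W' ≤ W) (s : Γ(P, W)) :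
    val b (P.presheaf.map (homOfLE h).op s) = X.presheaf.map (homOfLE h).op (val b s) :=
  QCohLib.app_map b (homOfLE h) s

theorem germ_val_mem (I : X.IdealSheafData) (ha : a ≫ ClSub.toSubscheme I = 0) (V : X.affineOpens) {W : X.Opens}
    (x : X) (hV : x ∈ V.1) (hW : x ∈ W) (e : Γ(F, W)) :
    X.presheaf.germ W x hW (val a e) ∈ (I.ideal V).map (X.presheaf.germ V.1 x hV).hom := by
  obtain ⟨g, hgW, hxg⟩ := QCohLib.exists_basicOpen_nhd V.2 (V := W) hW hV
  let D : X.affineOpens := X.affineBasicOpen g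
  have hDV : D.1 ≤ V.1 := X.basicOpen_le g
  let e' : Γ(F, D.1) := F.presheaf.map (homOfLE hgW).op e
  have h1 : val a e' ∈ I.ideal D := by
    refine (IntMultLib.toSubscheme_app_eq_zero_iff I D _).1 ?_
    exact congr(Scheme.Modules.Hom.app $ha D.1 e')
  rw [← I.map_ideal (U := D) (V := V) hDV] at h1
  have h2 := Ideal.mem_map_of_mem (X.presheaf.germ D.1 x hxg).hom h1
  rw [Ideal.map_map] at h2
  have h3 : (X.presheaf.germ D.1 x hxg).hom.comp (X.presheaf.map (homOfLE hDV).op).hom =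
      (X.presheaf.germ V.1 x hV).hom := RingHom.ext fun y => TopCat.Presheaf.germ_res_apply X.presheaf _ x hxg y
  have h4 : X.presheaf.germ D.1 x hxg (val a e') = X.presheaf.germ W x hW (val a e) := by
    refine (congrArg (X.presheaf.germ D.1 x hxg) (val_res a hgW e)).trans ?_
    exact TopCat.Presheaf.germ_res_apply X.presheaf _ x hxg _
  rw [← h4]
  exact h3 ▸ h2

theorem germ_muPow_mem (I : X.IdealSheafData) (ha : a ≫ ClSub.toSubscheme I = 0) (V : X.affineOpens) :
    ∀ (n : ℕ) {W : X.Opens} (x : X) (hV : x ∈ V.1) (hW : x ∈ W) (s : Γ(CohB1.tensorPow F n, W)),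
      X.presheaf.germ W x hW (val (muPow a n) s) ∈ (I.ideal V ^ n).map (X.presheaf.germ V.1 x hV).hom
  | 0, W, x, hV, hW, s => by
    rw [pow_zero, Ideal.one_eq_top, Ideal.map_top]
    exact Submodule.mem_top
  | n + 1, W, x, hV, hW, s => by
    let P := CohB1.tensorPow F n
    let Q := KFlatLib.tens P F
    obtain ⟨w, hw⟩ := (KFlatLib.stalkTensorLin_bijective P F x).2 (Q.presheaf.germ W x hW s)
    have key : ∀ w, ∃ (W' : X.Opens) (hW' : x ∈ W') (s' : Γ(CohB1.tensorPow F (n + 1), W')),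
        Q.presheaf.germ W' x hW' s' = KFlatLib.stalkTensorLin P F x w ∧
        X.presheaf.germ W' x hW' (val (muPow a (n + 1)) s') ∈
          (I.ideal V ^ (n + 1)).map (X.presheaf.germ V.1 x hV).hom := by
      intro w
      induction w using TensorProduct.induction_on with
      | zero =>
        refine ⟨W, hW, 0, (map_zero (Q.presheaf.germ W x hW).hom).trans (map_zero _).symm, ?_⟩
        have h : val (muPow a (n + 1)) (0 : Γ(CohB1.tensorPow F (n + 1), W)) = 0 := map_zero ((muPow a (n + 1)).app W).hom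
        rw [h, map_zero]
        exact Submodule.zero_mem _
      | tmul p q =>
        obtain ⟨U, hU, m, e, rfl, rfl⟩ := KFlatLib.exists_germ₂ x p q
        refine ⟨U, hU, shT m e, (KFlatLib.stalkTensorLin_germ P F x hU m e).symm, ?_⟩
        rw [muPow_shT, map_mul, pow_succ, Ideal.map_mul]
        exact Ideal.mul_mem_mul (germ_muPow_mem I ha V n x hV hU m) (germ_val_mem a I ha V x hV hU e)
      | add p q hp hq =>
        obtain ⟨U₁, h₁, s₁, e₁, m₁⟩ := hp
        obtain ⟨U₂, h₂, s₂, e₂, m₂⟩ := hq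
        let r₁ := Q.presheaf.map (homOfLE (inf_le_left : U₁ ⊓ U₂ ≤ U₁)).op s₁
        let r₂ := Q.presheaf.map (homOfLE (inf_le_right : U₁ ⊓ U₂ ≤ U₂)).op s₂
        refine ⟨U₁ ⊓ U₂, ⟨h₁, h₂⟩, r₁ + r₂, ?_, ?_⟩
        · refine (map_add (Q.presheaf.germ (U₁ ⊓ U₂) x ⟨h₁, h₂⟩).hom r₁ r₂).trans ?_
          rw [map_add]
          refine congrArg₂ (· + ·) ?_ ?_
          · exact (TopCat.Presheaf.germ_res_apply Q.presheaf _ x _ s₁).trans e₁
          · exact (TopCat.Presheaf.germ_res_apply Q.presheaf _ x _ s₂).trans e₂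
        · have h : val (muPow a (n + 1)) (r₁ + r₂) = val (muPow a (n + 1)) r₁ + val (muPow a (n + 1)) r₂ :=
            map_add ((muPow a (n + 1)).app (U₁ ⊓ U₂)).hom r₁ r₂
          rw [h, map_add]
          refine Submodule.add_mem _ ?_ ?_
          · have e : val (muPow a (n + 1)) r₁ = X.presheaf.map (homOfLE inf_le_left).op (val (muPow a (n + 1)) s₁) :=
              val_res _ _ _
            rw [e, TopCat.Presheaf.germ_res_apply]
            exact m₁
          · have e : val (muPow a (n + 1)) r₂ = X.presheaf.map (homOfLE inf_le_right).op (val (muPow a (n + 1)) s₂) :=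
              val_res _ _ _
            rw [e, TopCat.Presheaf.germ_res_apply]
            exact m₂
    obtain ⟨W', hW', s', hs', hm'⟩ := key w
    obtain ⟨W'', hx, i₁, i₂, he⟩ := TopCat.Presheaf.germ_eq Q.presheaf x hW' hW s' s (hs'.trans hw)
    have h := congrArg (val (muPow a (n + 1))) he
    have h1 : val (muPow a (n + 1)) (Q.presheaf.map i₁.op s') = X.presheaf.map i₁.op (val (muPow a (n + 1)) s') :=
      QCohLib.app_map (muPow a (n + 1)) i₁ s'
    have h2 : val (muPow a (n + 1)) (Q.presheaf.map i₂.op s) = X.presheaf.map i₂.op (val (muPow a (n + 1)) s) :=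
      QCohLib.app_map (muPow a (n + 1)) i₂ s
    have h3 := congrArg (X.presheaf.germ W'' x hx) ((h1.symm.trans h).trans h2)
    rw [TopCat.Presheaf.germ_res_apply, TopCat.Presheaf.germ_res_apply] at h3
    rw [← h3]
    exact hm'

theorem muPow_comp_toSubscheme (I : X.IdealSheafData) (ha : a ≫ ClSub.toSubscheme I = 0) {n₀ n : ℕ} (hn : n₀ ≤ n) :
    muPow a n ≫ ClSub.toSubscheme (I ^ n₀) = 0 := by
  refine DefClassLib.hom_ext_affines fun V s => ?_
  refine (IntMultLib.toSubscheme_app_eq_zero_iff (I ^ n₀) V (val (muPow a n) s)).2 ?_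
  rw [Scheme.IdealSheafData.ideal_pow, Pi.pow_apply]
  refine (Ideal.span_singleton_le_iff_mem _).1 (V.2.ideal_le_iff.2 fun x hx => ?_)
  rw [Ideal.map_span, Set.image_singleton, Ideal.span_singleton_le_iff_mem]
  exact Ideal.map_mono (Ideal.pow_le_pow_right hn) (germ_muPow_mem a I ha V n x hx hx s)

theorem exists_one {W : X.Opens} (e : Γ(F, W)) (he : val a e = 1) :
    ∀ n : ℕ, ∃ z : Γ(CohB1.tensorPow F n, W), val (muPow a n) z = 1
  | 0 => ⟨(1 : Γ(X, W)), rfl⟩
  | n + 1 => by
    obtain ⟨z, hz⟩ := exists_one e he n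
    exact ⟨shT z e, by rw [muPow_shT, hz, he, mul_one]⟩

theorem exists_ext [IsNoetherian X] (I : X.IdealSheafData) (ha : a ≫ ClSub.toSubscheme I = 0) (U : X.Opens)
    (hU : (U : Set X) = (I.support : Set X)ᶜ) (N : X.Modules) (hN : Coh.IsQCoh N)
    (e : Γ(F, U.ι ''ᵁ ⊤)) (he : val a e = 1) (t : Γ(N, U.ι ''ᵁ ⊤)) :
    ∃ n₀, ∀ n, n₀ ≤ n → ∃ (ψ : CohB1.tensorPow F n ⟶ N) (z : Γ(CohB1.tensorPow F n, U.ι ''ᵁ ⊤)),
      ψ.app (U.ι ''ᵁ ⊤) z = t := by
  let φ : (Scheme.Modules.restrictFunctor U.ι).obj (Coh.structureModule X) ⟶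
      (Scheme.Modules.restrictFunctor U.ι).obj N :=
    (Scheme.Modules.restrictUnitIso U.ι).hom ≫ QCohLib.unitHom (N.restrict U.ι) t
  have hφ : φ.app ⊤ (1 : Γ(X, U.ι ''ᵁ ⊤)) = t := by
    show (QCohLib.unitHom (N.restrict U.ι) t).app ⊤ ((U.ι.appIso ⊤).hom (1 : Γ(X, U.ι ''ᵁ ⊤))) = t
    rw [map_one]
    refine (QCohLib.unitHom_app (N.restrict U.ι) t ⊤ 1).trans ((one_smul _ _).trans ?_)
    rw [show homOfLE (le_top : (⊤ : (U : Scheme.{u}).Opens) ≤ ⊤) = 𝟙 _ from Subsingleton.elim _ _, op_id,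
      CategoryTheory.Functor.map_id]
    rfl
  obtain ⟨n₀, ψ₀, hψ₀⟩ := Groth.Agent.S9515.result X N (Coh.structureModule X) hN
    (DevissLib.isCoh_structureModule X) I U hU φ
  refine ⟨n₀, fun n hn => ?_⟩
  let J := I ^ n₀
  have hz : muPow a n ≫ (Scheme.Modules.pullbackPushforwardAdjunction J.subschemeι).unit.app (Coh.structureModule X) = 0 := by
    have h : (Scheme.Modules.pullbackPushforwardAdjunction J.subschemeι).unit.app (Coh.structureModule X) ≫
        (Scheme.Modules.pushforward J.subschemeι).map (KFlatLib.pullUnitIso J.subschemeι).hom = ClSub.toSubscheme J :=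
      ((Scheme.Modules.pullbackPushforwardAdjunction J.subschemeι).homEquiv_unit _ _ _).symm.trans
        (((Scheme.Modules.pullbackPushforwardAdjunction J.subschemeι).homEquiv _ _).apply_symm_apply
          (ClSub.unitToPush J.subschemeι))
    have h' := muPow_comp_toSubscheme a I ha hn
    rw [← h, ← Category.assoc] at h'
    exact (cancel_mono ((Scheme.Modules.pushforward J.subschemeι).map (KFlatLib.pullUnitIso J.subschemeι).hom)).1
      (h'.trans zero_comp.symm)
  let ρ : CohB1.tensorPow F n ⟶ (Dual3.idealMul J).obj (Coh.structureModule X) := kernel.lift _ (muPow a n) hz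
  have hρ : ρ ≫ Dual3.idealMulι J (Coh.structureModule X) = muPow a n := kernel.lift_ι _ _ _
  obtain ⟨z, hz1⟩ := exists_one a e he n
  refine ⟨ρ ≫ ψ₀, z, ?_⟩
  have h1 := congr(Scheme.Modules.Hom.app $hψ₀ ⊤ (ρ.app (U.ι ''ᵁ ⊤) z))
  refine h1.trans (Eq.trans ?_ hφ)
  refine congrArg (fun y => φ.app ⊤ y) ?_
  exact (congr(Scheme.Modules.Hom.app $hρ (U.ι ''ᵁ ⊤) z)).trans hz1

theorem exists_generator (X : Scheme.{u}) [CompactSpace X] [QuasiSeparatedSpace X] :
    ∃ F : X.Modules, Coh.IsQCoh F ∧ CohB1.IsFP F ∧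
      ∀ M : X.Modules, Coh.IsQCoh M → CohB1.IsFP M →
        ∃ n₀ m₀ : ℕ, ∀ n m : ℕ, n₀ ≤ n → m₀ ≤ m →
          ∃ π : (∐ fun _ : Fin m => CohB1.tensorPow F n) ⟶ M, Epi π := by
  classical
  obtain ⟨A⟩ := NoethApproxLib.exists_approx X
  let i₀ := Classical.arbitrary A.J
  let X₀ := A.obj i₀
  let q : X ⟶ X₀ := A.proj i₀
  haveI : IsAffineHom q := A.isAffineHom_proj i₀
  haveI : IsLocallyNoetherian X₀ := A.isLocallyNoetherian (op i₀)
  haveI : CompactSpace X₀ := A.compact (op i₀)
  haveI : IsNoetherian X₀ := ⟨⟩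
  obtain ⟨s, hs⟩ := isCompact_univ.elim_finite_subcover (fun V : X₀.affineOpens => (V.1 : Set X₀))
    (fun V => V.1.2) fun x _ => by
      obtain ⟨V, hV, hxV, -⟩ := exists_isAffineOpen_mem_and_subset (show x ∈ (⊤ : X₀.Opens) from trivial)
      exact Set.mem_iUnion.2 ⟨⟨V, hV⟩, hxV⟩
  let U : Fin s.card → X₀.affineOpens := fun j => (s.equivFin.symm j).1
  have hcov : ∀ x : X₀, ∃ j, x ∈ (U j).1 := fun x => by
    obtain ⟨V, hV, hxV⟩ := Set.mem_iUnion₂.1 (hs (Set.mem_univ x))
    exact ⟨s.equivFin ⟨V, hV⟩, by simpa [U] using hxV⟩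
  let I : Fin s.card → X₀.IdealSheafData := fun j =>
    Scheme.IdealSheafData.vanishingIdeal ⟨((U j).1 : Set X₀)ᶜ, (U j).1.2.isClosed_compl⟩
  have hI : ∀ j, ((U j).1 : Set X₀) = ((I j).support : Set X₀)ᶜ := fun j => by
    rw [Scheme.IdealSheafData.coe_support_vanishingIdeal]
    exact (compl_compl _).symm
  let F₀ : X₀.Modules := ⨁ fun j => ClSub.idealMod (I j)
  have hF₀ : Coh.IsCoh F₀ := CurveSDLib.isCoh_biproduct fun j => SurfExtLib.isCoh_idealMod (I j)
  haveI : Coh.IsQCoh F₀ := hF₀.1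
  refine ⟨(Scheme.Modules.pullback q).obj F₀, KFlatLib.isQCoh_pullback q F₀,
    RichLib.ModFlat.isFP_pullback q (QCohLib.isFP_of_isCoh F₀ hF₀), fun M hM hMfp => ?_⟩
  haveI := hM
  haveI : CohB1.IsFP M := hMfp
  have hft : CohB1.IsFT M := FlatFunLimLib.isFT_of_isFP' hMfp
  let W : Fin s.card → X₀.Opens := fun j => (U j).1.ι ''ᵁ ⊤
  have hW : ∀ j, W j = (U j).1 := fun j => Scheme.Opens.ι_image_top _
  have hWa : ∀ j, IsAffineOpen (q ⁻¹ᵁ W j) := fun j => by
    rw [hW j]
    exact (U j).2.preimage q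
  choose K hK t ht using fun j => QCohLib.exists_genOn_affine (M := M) hft (hWa j)
  let N := (Scheme.Modules.pushforward q).obj M
  haveI : Coh.IsQCoh N := QCohLib.isQCoh_pushforward q M
  have he : ∀ j, ∃ e : Γ(F₀, W j), val (biproduct.π (fun j => ClSub.idealMod (I j)) j ≫ ClSub.idealModι (I j)) e = 1 := by
    intro j
    let V : X₀.affineOpens := ⟨W j, (hW j).symm ▸ (U j).2⟩
    have h1 : (1 : Γ(X₀, V.1)) ∈ (I j).ideal V := by
      refine (IntMultLib.toSubscheme_app_eq_zero_iff (I j) V 1).1 ?_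
      have hb : (I j).subschemeι ⁻¹ᵁ V.1 = ⊥ := by
        refine eq_bot_iff.2 fun z hz => ?_
        have h2 : (I j).subschemeι z ∈ ((I j).support : Set X₀) := (I j).range_subschemeι ▸ ⟨z, rfl⟩
        exact absurd ((hI j).le (show (I j).subschemeι z ∈ (U j).1 from hW j ▸ hz)) (not_not.2 h2)
      haveI : Subsingleton Γ((I j).subscheme, (I j).subschemeι ⁻¹ᵁ V.1) := by
        rw [hb]
        exact CommRingCat.subsingleton_of_isTerminal (I j).subscheme.sheaf.isTerminalOfEmpty
      exact @Subsingleton.elim Γ((I j).subscheme, (I j).subschemeι ⁻¹ᵁ V.1) _ _ _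
    obtain ⟨σ, hσ⟩ := IntMultLib.exists_section (I j) V h1
    refine ⟨(biproduct.ι (fun j => ClSub.idealMod (I j)) j).app (W j) σ, ?_⟩
    refine Eq.trans ?_ hσ
    exact congr(Scheme.Modules.Hom.app $(show biproduct.ι (fun j => ClSub.idealMod (I j)) j ≫
      biproduct.π (fun j => ClSub.idealMod (I j)) j ≫ ClSub.idealModι (I j) = ClSub.idealModι (I j) by
        rw [biproduct.ι_π_self_assoc]) (W j) σ)
  choose e he using he
  have hext := fun (p : (j : Fin s.card) × K j) =>
    exists_ext (biproduct.π (fun j => ClSub.idealMod (I j)) p.1 ≫ ClSub.idealModι (I p.1)) (I p.1)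
      (by rw [Category.assoc, show ClSub.idealModι (I p.1) ≫ ClSub.toSubscheme (I p.1) = 0 from
        kernel.condition _, comp_zero]) (U p.1).1 (hI p.1) N inferInstance (e p.1) (he p.1) (t p.1 p.2)
  choose n₀ hn₀ using hext
  haveI := hK
  let S := (j : Fin s.card) × K j
  refine ⟨Finset.univ.sup n₀, Fintype.card S, fun n m hn hm => ?_⟩
  choose ψ z hψ using fun p : S => hn₀ p n ((Finset.le_sup (Finset.mem_univ p)).trans hn)
  obtain ⟨φ⟩ := CurveDualLib.nonempty_pb_tensorPow q F₀ n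
  let adj := Scheme.Modules.pullbackPushforwardAdjunction q
  let E := (Fintype.equivFin S).symm
  let comp : Fin m → (CohB1.tensorPow ((Scheme.Modules.pullback q).obj F₀) n ⟶ M) := fun k =>
    if h : k.1 < Fintype.card S then φ.inv ≫ (adj.homEquiv _ M).symm (ψ (E ⟨k.1, h⟩)) else 0
  refine ⟨Sigma.desc comp, Preadditive.epi_of_cancel_zero _ fun {P} g hg => ?_⟩
  have hgp : ∀ p : S, g.app (q ⁻¹ᵁ W p.1) (t p.1 p.2) = 0 := fun p => by
    have hk : (Fintype.equivFin S p).1 < m := (Fintype.equivFin S p).2.trans_le hm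
    have h1 := congrArg (fun f => Sigma.ι (fun _ : Fin m => CohB1.tensorPow ((Scheme.Modules.pullback q).obj F₀) n)
      ⟨_, hk⟩ ≫ f) hg
    simp only [colimit.ι_desc_assoc, Cofan.mk_ι_app, comp_zero, comp] at h1
    rw [dif_pos (Fintype.equivFin S p).2, Category.assoc] at h1
    have h2 : (adj.homEquiv _ M).symm (ψ p) ≫ g = 0 := by
      have h := (cancel_epi φ.inv).1 (h1.trans comp_zero.symm)
      simpa [E] using h
    rw [← adj.homEquiv_naturality_right_symm] at h2
    have h3 : ψ p ≫ (Scheme.Modules.pushforward q).map g = 0 := by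
      apply (adj.homEquiv _ P).symm.injective
      haveI : (Scheme.Modules.pullback q).IsLeftAdjoint := adj.isLeftAdjoint
      haveI : (Scheme.Modules.pullback q).Additive := adj.left_adjoint_additive
      rw [h2, Adjunction.homEquiv_counit, Functor.map_zero, zero_comp]
    have h4 := congr(Scheme.Modules.Hom.app $h3 (W p.1) (z p))
    rw [← hψ p]
    exact h4
  apply Scheme.Modules.hom_ext
  intro O
  refine ConcreteCategory.hom_ext _ _ fun r => ?_
  have hloc : ∀ x : O, ∃ (O' : X.Opens) (hO : O' ≤ O), x.1 ∈ O' ∧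
      P.presheaf.map (homOfLE hO).op (g.app O r) = 0 := fun x => by
    obtain ⟨j, hj⟩ := hcov (q x.1)
    have hxj : x.1 ∈ q ⁻¹ᵁ W j := (hW j).symm ▸ hj
    obtain ⟨O', hO', hOW, hpO, c, hc⟩ := ht j (O ⊓ q ⁻¹ᵁ W j) inf_le_right
      (M.presheaf.map (homOfLE inf_le_left).op r) x.1 ⟨x.2, hxj⟩
    refine ⟨O', hO'.trans inf_le_left, hpO, ?_⟩
    have h := congrArg (g.app O') hc
    rw [map_sum, QCohLib.map_map'] at h
    refine ((QCohLib.app_map g (homOfLE (hO'.trans inf_le_left)) r).symm.trans ?_)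
    refine h.trans (Finset.sum_eq_zero fun i _ => ?_)
    rw [QCohLib.app_smul, QCohLib.app_map, hgp ⟨j, i⟩, map_zero, smul_zero]
  choose O' hO' hx' h' using hloc
  refine TopCat.Sheaf.eq_of_locally_eq' ((QCohLib.toAbF X).obj P : TopCat.Sheaf AddCommGrpCat _) O' O
    (fun x => homOfLE (hO' x)) (fun x hx => Opens.mem_iSup.mpr ⟨⟨x, hx⟩, hx' ⟨x, hx⟩⟩) (g.app O r) _ fun x => ?_
  exact (h' x).trans (map_zero _).symm

end FPGenLib
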